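import Groth.Agent.S1033
import Mathlib.Algebra.Homology.DerivedCategory.Ext.ExactSequences
import Mathlib.CategoryTheory.Abelian.Exact

/-!
# Realisation of `Ext¹` classes by short exact sequences, in an arbitrary abelian category

* `shortExact_pushout`: pushing out a short exact sequence along a map from its first term.
* `exists_extClass`: every class in `Ext Q F 1` is the class of a short exact sequence
  `0 ⟶ F ⟶ X ⟶ Q ⟶ 0` (no enough injectives or projectives).
* `exists_hom_of_extClass_comp`: if the class of `0 ⟶ F ⟶ X ⟶ Q ⟶ 0` pushed along `b : F ⟶ R` is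
  the class of `0 ⟶ R ⟶ E ⟶ Q ⟶ 0` then there is a morphism of extensions `X ⟶ E` over `b` and `𝟙 Q`.
-/

set_option autoImplicit false

universe w v v'

open CategoryTheory CategoryTheory.Limits CategoryTheory.Abelian

namespace Groth.Agent.Sga7.H745.ExtReal

variable {C : Type w} [Category.{v} C] [Abelian C]

/-- pushing out a short exact sequence -/
theorem shortExact_pushout {K E Q F : C} {i : K ⟶ E} {p : E ⟶ Q} {w : i ≫ p = 0}
    (hS : (ShortComplex.mk i p w).ShortExact) (h : K ⟶ F) :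
    ∃ (w' : pushout.inl h i ≫ pushout.desc 0 p (by rw [comp_zero, w]) = 0),
      (ShortComplex.mk (pushout.inl h i) (pushout.desc 0 p (by rw [comp_zero, w])) w').ShortExact := by
  have hmono : Mono i := hS.mono_f
  have hepi : Epi p := hS.epi_g
  have w' : pushout.inl h i ≫ pushout.desc 0 p (by rw [comp_zero, w]) = 0 :=
    pushout.inl_desc _ _ _
  refine ⟨w', ?_⟩
  have he : Epi (pushout.desc 0 p (by rw [comp_zero, w]) : pushout h i ⟶ Q) := by
    have : Epi (pushout.inr h i ≫ (pushout.desc 0 p (by rw [comp_zero, w]) : pushout h i ⟶ Q)) := by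
      rw [pushout.inr_desc]; infer_instance
    exact epi_of_epi (pushout.inr h i) _
  have hm : Mono (pushout.inl h i) := inferInstance
  refine ShortComplex.ShortExact.mk' ?_ hm he
  apply ShortComplex.exact_of_g_is_cokernel
  have hk : IsColimit (CokernelCofork.ofπ p w) := hS.gIsCokernel
  refine CokernelCofork.IsColimit.ofπ _ _ (fun {T} t ht => hk.desc (CokernelCofork.ofπ
    (pushout.inr h i ≫ t) (by rw [← Category.assoc, ← pushout.condition, Category.assoc, ht,
      comp_zero]))) (fun {T} t ht => ?_) (fun {T} t ht a ha => ?_)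
  · apply pushout.hom_ext
    · rw [← Category.assoc, pushout.inl_desc, zero_comp, ht]
    · rw [← Category.assoc, pushout.inr_desc]
      exact hk.fac _ WalkingParallelPair.one
  · rw [← cancel_epi p]
    have := hk.fac (CokernelCofork.ofπ (pushout.inr h i ≫ t)
      (by rw [← Category.assoc, ← pushout.condition, Category.assoc, ht, comp_zero]))
      WalkingParallelPair.one
    refine Eq.trans ?_ this.symm
    change p ≫ a = pushout.inr h i ≫ t
    rw [← ha, ← Category.assoc, pushout.inr_desc]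

variable [HasExt.{v'} C]

/-- Every class in `Ext Q F 1` is the class of a short exact sequence. -/
theorem exists_extClass {Q F : C} (e : Ext.{v'} Q F 1) :
    ∃ (X : C) (i : F ⟶ X) (p : X ⟶ Q) (w : i ≫ p = 0) (hS : (ShortComplex.mk i p w).ShortExact),
      hS.extClass = e := by
  obtain ⟨P, p, hp, h⟩ := Groth.Agent.S1033.exists_epi_ext_comp_eq_zero (n := 0) e
  have hT : (ShortComplex.mk (kernel.ι p) p (kernel.condition p)).ShortExact :=
    { exact := ShortComplex.exact_of_f_is_kernel _ (kernelIsKernel p)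
      mono_f := by dsimp; infer_instance
      epi_g := hp }
  obtain ⟨y, hy⟩ := Ext.contravariant_sequence_exact₃ hT F e h (n₀ := 0) (by omega)
  obtain ⟨h, rfl⟩ := (Ext.mk₀_bijective _ _).2 y
  obtain ⟨w', hS⟩ := shortExact_pushout hT h
  refine ⟨_, _, _, w', hS, ?_⟩
  have h3 := ShortComplex.ShortExact.extClass_naturality hT hS
    { τ₁ := h
      τ₂ := pushout.inr h (kernel.ι p)
      τ₃ := 𝟙 Q
      comm₁₂ := pushout.condition
      comm₂₃ := by
        change pushout.inr h (kernel.ι p) ≫ pushout.desc 0 p _ = p ≫ 𝟙 Q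
        rw [Category.comp_id, pushout.inr_desc] }
  rw [← hy]
  exact ((Ext.mk₀_id_comp _).symm.trans h3.symm)

/-- A morphism of extensions from an equality of classes. -/
theorem exists_hom_of_extClass_comp {F X Q R E : C} {i : F ⟶ X} {q : X ⟶ Q} {w : i ≫ q = 0}
    (hX : (ShortComplex.mk i q w).ShortExact) {c : R ⟶ E} {d : E ⟶ Q} {w' : c ≫ d = 0}
    (hE : (ShortComplex.mk c d w').ShortExact) (b : F ⟶ R)
    (h : hX.extClass.comp (Ext.mk₀ b) (add_zero 1) = hE.extClass) :
    ∃ p : X ⟶ E, i ≫ p = b ≫ c ∧ p ≫ d = q := by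
  -- extend `b ≫ c` to `X`
  have h1 : hX.extClass.comp (Ext.mk₀ (b ≫ c)) (add_zero 1) = 0 := by
    rw [← Ext.mk₀_comp_mk₀, ← Ext.comp_assoc_of_third_deg_zero, h]
    exact hE.extClass_comp
  obtain ⟨y, hy⟩ := Ext.contravariant_sequence_exact₁ hX E (Ext.mk₀ (b ≫ c)) (add_zero 1) h1
  obtain ⟨p, rfl⟩ := (Ext.mk₀_bijective _ _).2 y
  have hp : i ≫ p = b ≫ c := by
    apply (Ext.mk₀_bijective _ _).1
    rw [← hy, ← Ext.mk₀_comp_mk₀]
  -- the induced map `u : Q ⟶ Q`
  have hk : IsColimit (CokernelCofork.ofπ q w) := hX.gIsCokernel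
  have hu0 : i ≫ (p ≫ d) = 0 := by rw [← Category.assoc, hp, Category.assoc, w', comp_zero]
  let u : Q ⟶ Q := hk.desc (CokernelCofork.ofπ (p ≫ d) hu0)
  have hu : q ≫ u = p ≫ d := hk.fac (CokernelCofork.ofπ (p ≫ d) hu0) WalkingParallelPair.one
  have h2 := ShortComplex.ShortExact.extClass_naturality hX hE
    { τ₁ := b
      τ₂ := p
      τ₃ := u
      comm₁₂ := hp.symm
      comm₂₃ := hu.symm }
  have h3 : (Ext.mk₀ (u - 𝟙 Q)).comp hE.extClass (zero_add 1) = 0 := by
    have e1 : Ext.mk₀ (u - 𝟙 Q) = Ext.mk₀ u - Ext.mk₀ (𝟙 Q) :=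
      map_sub (Ext.addEquiv₀ (X := Q) (Y := Q)).symm u (𝟙 Q)
    rw [e1, sub_eq_add_neg, Ext.add_comp, Ext.neg_comp, Ext.mk₀_id_comp, ← sub_eq_add_neg, sub_eq_zero]
    exact h2.symm.trans h
  obtain ⟨z, hz⟩ := Ext.covariant_sequence_exact₃ Q hE (Ext.mk₀ (u - 𝟙 Q)) (zero_add 1) h3
  obtain ⟨v, rfl⟩ := (Ext.mk₀_bijective _ _).2 z
  have hv : v ≫ d = u - 𝟙 Q := by
    apply (Ext.mk₀_bijective _ _).1
    rw [← hz, ← Ext.mk₀_comp_mk₀]
  refine ⟨p - q ≫ v, ?_, ?_⟩
  · rw [Preadditive.comp_sub, hp, ← Category.assoc, w, zero_comp, sub_zero]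
  · rw [Preadditive.sub_comp, Category.assoc, hv, Preadditive.comp_sub, Category.comp_id, hu]
    abel

end Groth.Agent.Sga7.H745.ExtReal
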